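import Cfsg.Agent.H592.Height
import Cfsg.Agent.H613.KKL.Defs
import Cfsg.Prelude.Def_BlockLocal

/-!
# S4546, pieces B3 and B10: the Fong–Reynolds reduction and the existence of a covered block
-/

set_option autoImplicit false

open Cfsg Cfsg.Agent.H613.KKL

namespace Cfsg.Agent.H245.KKL

open Cfsg.Agent Cfsg.Agent.Characters.Core

universe u

theorem E8.map_equiv {A B : Type*} [Group A] [Group B] (e : A ≃* B) {D : Subgroup A} {E : Subgroup B}
    (h : D.map e.toMonoidHom = E) (hE : E8 E) : E8 D := by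
  refine ⟨?_, fun d hd => ?_⟩
  · rw [← hE.card, ← h]
    exact Nat.card_congr (D.equivMapOfInjective _ e.injective).toEquiv
  · apply e.injective
    rw [map_mul, map_one]
    exact hE.inv _ (h ▸ Subgroup.mem_map_of_mem _ hd)

/-- Two defect groups of a block are conjugate. -/
theorem conj_defect {G : Type u} [Group G] [Finite G] (p : ℕ) [Fact p.Prime]
    {M : Ideal AlgInt} (hM : IsPModular p M) {B : Set (IrrCharacter G)} (hB : IsPBlock M B)
    {D E : Subgroup G} (hD : IsDefectGroup p M B D) (hE : IsDefectGroup p M B E) :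
    ∃ x : G, D.map (MulAut.conj x).toMonoidHom = E := by
  have h1 := (S0959.result p M hM B hB D hD D (H592.Defect.isPGroup_of_isDefectGroup hD)).2
    ⟨1, by rw [Blocks.Basic.map_conj_one]⟩
  obtain ⟨x, hx⟩ := (S0959.result p M hM B hB E hE D (H592.Defect.isPGroup_of_isDefectGroup hD)).1 h1
  refine ⟨x, Subgroup.eq_of_le_of_card_ge hx ?_⟩
  have h3 : Nat.card (D.map (MulAut.conj x).toMonoidHom) = Nat.card D :=
    Nat.card_congr (D.equivMapOfInjective _ (MulAut.conj x).injective).toEquiv.symm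
  rw [h3, S0908.result p M hM B hB D hD, S0908.result p M hM B hB E hE]

theorem isStab_of {G : Type u} [Group G] {N T : Subgroup G} [N.Normal] {b : Set (IrrCharacter ↥N)}
    (hT : ∀ g : G, g ∈ T ↔ StabilizesBlock N b g) : H591.Reynolds.IsStab b T := by
  have hN : N.Normal := inferInstance
  intro g
  rw [← T.inv_mem_iff, hT]
  constructor
  · rintro ⟨-, h⟩ θ hθ θ' hθ'
    obtain ⟨χ', h1, h2⟩ := h θ hθ
    have h3 : θ' = χ' := by
      apply Subtype.ext
      funext n
      rw [hθ' n]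
      exact (h2 ⟨g * n * g⁻¹, hN.conj_mem n n.2 g⟩ n (by
        show (n : G) = g⁻¹ * (g * n * g⁻¹) * g⁻¹⁻¹
        group)).symm
    rw [h3]
    exact h1
  · intro h
    refine ⟨?_, fun θ hθ => ?_⟩
    · rw [Subgroup.normalizer_eq_top_iff.2 hN]
      exact Subgroup.mem_top _
    · refine ⟨Blocks.Covering.conjIrr N g θ, h θ hθ _ fun n => ?_, fun k k' hk => ?_⟩
      · rw [Blocks.Covering.conjIrr_apply, H591.Reynolds.conjNormal_eq]
      · rw [Blocks.Covering.conjIrr_apply, H591.Reynolds.conjNormal_eq]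
        have h1 : (⟨g * k' * g⁻¹, hN.conj_mem k' k'.2 g⟩ : ↥N) = k := by
          apply Subtype.ext
          show g * (k' : G) * g⁻¹ = k
          rw [hk]
          group
        rw [h1]

theorem exists_constituent {G : Type u} [Group G] (N : Subgroup G) [Fintype N] (χ : IrrCharacter G) :
    ∃ θ : IrrCharacter N, classInner (fun n : N => (χ : G → ℂ) n) (θ : N → ℂ) ≠ 0 := by
  by_contra hcon
  push Not at hcon
  have h1 := Characters.Core.classFunction_eq_zero (G := N) (f := fun n : N => (χ : G → ℂ) n)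
    (Characters.Core.isCharacter_isClassFunction
      (Characters.Core.isCharacter_comp N.subtype (Characters.Core.isIrr_isCharacter χ.2)))
    (fun θ hθ => hcon ⟨θ, hθ⟩)
  have h2 := congrFun h1 1
  obtain ⟨m, hm, h3⟩ := Characters.Core.isIrr_apply_one χ.2
  simp only [OneMemClass.coe_one, Pi.zero_apply] at h2
  rw [h3] at h2
  exact hm.ne' (by exact_mod_cast h2)

section
variable {G : Type u} [Group G] [Finite G] {M : Ideal AlgInt} (hM : IsPModular 2 M) {B : Set (IrrCharacter G)}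
  (hB : IsPBlock M B) {D : Subgroup G} (hD : IsDefectGroup 2 M B D) (h8 : E8 D)
include hM hB hD h8

/-- B3: Fong–Reynolds. -/
theorem B3 (N : Subgroup G) [N.Normal] (b : Set (IrrCharacter ↥N)) (hb : IsPBlock M b) (hcov : Cov N b B)
    (T : Subgroup G) (hT : ∀ g : G, g ∈ T ↔ StabilizesBlock N b g) (hz : HZ ↥T) :
    ∀ χ ∈ B, blockHeight 2 B (χ : G → ℂ) = 0 := by
  classical
  have hprime : M.IsPrime := Blocks.Local.isPrime_of_isPModular hM
  have := Fintype.ofFinite G
  have := Fintype.ofFinite ↥N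
  have := Fintype.ofFinite ↥T
  have hst := isStab_of hT
  have hNT : N ≤ T := hst.le hb
  have hcov' : ∃ χ ∈ B, ∃ θ ∈ b, classInner (fun n : N => (χ : G → ℂ) n) (θ : N → ℂ) ≠ 0 := by
    obtain ⟨χ, hχ, θ, hθ, h⟩ := hcov
    refine ⟨χ, hχ, θ, hθ, ?_⟩
    convert h
  obtain ⟨B', hB', ⟨ψ₀, hψ₀, θ₀, hθ₀, h₀⟩, hind⟩ :=
    (S4435.result 2 M hM N b hb T hst hNT).2.2 B hB hcov'
  intro χ hχ
  obtain ⟨ψ, hψ, hχψ⟩ :=
    (H591.ReynoldsMain.mem_induced_iff 2 hM hb hst hNT hB' hψ₀ hθ₀ h₀ hind χ).1 hχ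
  obtain ⟨hD1, hD2⟩ :=
    S4436.result 2 M hM N b hb T hst hNT B' hB' ⟨ψ₀, hψ₀, θ₀, hθ₀, h₀⟩ B hind
  obtain ⟨χ', -, hχ', hheight⟩ := hD2 ψ hψ
  have hχχ : (χ' : G → ℂ) = (χ : G → ℂ) := by rw [hχ', hχψ]
  rw [hχχ] at hheight
  obtain ⟨D', hD'⟩ := H592.Defect.exists_defectGroup 2 hM hB'
  obtain ⟨x, hx⟩ := conj_defect 2 hM hB (hD1 D' hD') hD
  have h8' : E8 (D'.map T.subtype) := E8.map_equiv _ hx h8
  have h8'' : E8 D' := by
    refine ⟨?_, fun d hd => ?_⟩
    · rw [← h8'.card]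
      exact Nat.card_congr (D'.equivMapOfInjective _ T.subtype_injective).toEquiv
    · apply T.subtype_injective
      rw [map_mul, map_one]
      exact h8'.inv _ (Subgroup.mem_map_of_mem _ hd)
  rw [hheight]
  exact hz M hM B' hB' D' hD' h8'' ψ hψ

/-- B10: every subgroup has a covered block. -/
theorem B10 (N : Subgroup G) : ∃ b : Set (IrrCharacter ↥N), IsPBlock M b ∧ Cov N b B := by
  classical
  have hprime : M.IsPrime := Blocks.Local.isPrime_of_isPModular hM
  obtain ⟨χ, hχ⟩ := Blocks.Basic.isPBlock_nonempty hB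
  obtain ⟨θ, hθ⟩ := @exists_constituent G _ N (Fintype.ofFinite ↥N) χ
  exact ⟨blockOf M (θ : N → ℂ), Blocks.Basic.isPBlock_blockOf θ, χ, hχ, θ,
    Blocks.Basic.mem_blockOf_self θ, hθ⟩

end

end Cfsg.Agent.H245.KKL
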